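import Groth.Prelude.Def_EGA41
import Groth.Agent.EGA41Lib.Separable
import Mathlib

/-!
# Cohen algebras are formally smooth for the adic topologies
-/

set_option autoImplicit false
universe u

open IsLocalRing

namespace Groth.Agent.CohenAlgFS

variable {A B : Type u} [CommRing A] [CommRing B] [Algebra A B]

/-- The reduction `B ⧸ 𝔪^n B`. -/
abbrev Red (m : Ideal A) (B : Type u) [CommRing B] [Algebra A B] (n : ℕ) : Type u :=
  B ⧸ (m ^ n).map (algebraMap A B)

theorem formallySmooth_red [Module.Flat A B] (m : Ideal A)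
    (h1 : Algebra.FormallySmooth (A ⧸ m ^ 1) (Red m B 1)) :
    ∀ n, Algebra.FormallySmooth (A ⧸ m ^ (n + 1)) (Red m B (n + 1)) := by
  intro n
  induction n with
  | zero => exact h1
  | succ n ih =>
    have hle : m ^ (n + 2) ≤ m ^ (n + 1) := Ideal.pow_le_pow_right (Nat.le_succ _)
    have hker : RingHom.ker (Ideal.Quotient.factor hle) =
        (m ^ (n + 1)).map (Ideal.Quotient.mk (m ^ (n + 2))) :=
      Ideal.Quotient.factor_ker hle
    have hflat : Module.Flat (A ⧸ m ^ (n + 2)) (Red m B (n + 2)) :=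
      Module.Flat.of_linearEquiv
        (Algebra.TensorProduct.quotIdealMapEquivQuotTensor B (m ^ (n + 2))).toLinearEquiv
    rw [← RingHom.formallySmooth_algebraMap]
    refine RingHom.FormallySmooth.of_flat_of_ker_eq_map_of_square_zero
      (algebraMap (A ⧸ m ^ (n + 2)) (Red m B (n + 2)))
      (RingHom.flat_algebraMap_iff.mpr hflat)
      (Ideal.Quotient.factor hle)
      (Ideal.Quotient.factor (Ideal.map_mono (f := algebraMap A B) hle))
      (algebraMap (A ⧸ m ^ (n + 1)) (Red m B (n + 1)))
      (Ideal.Quotient.factor_surjective hle) (Ideal.Quotient.factor_surjective _)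
      (Ideal.Quotient.ringHom_ext (RingHom.ext fun a => rfl)) ?_ ?_
      (RingHom.formallySmooth_algebraMap.mpr ih)
    · rw [hker, ← Ideal.map_pow, eq_bot_iff, ← Ideal.map_quotient_self (m ^ (n + 2))]
      refine Ideal.map_mono ?_
      rw [← pow_mul]
      exact Ideal.pow_le_pow_right (by omega)
    · rw [Ideal.Quotient.factor_ker, hker, Ideal.map_map, Ideal.map_map]
      rfl

theorem isFormallySmoothAdic_of_red (m : Ideal A) (b : Ideal B)
    (h : ∀ n, Algebra.FormallySmooth (A ⧸ m ^ (n + 1)) (Red m B (n + 1))) :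
    EGA41.IsFormallySmoothAdic A m B b := by
  intro C _ _ J hJ ⟨k, hk⟩ v _
  have hk' : ∀ a ∈ m ^ (k + 1), algebraMap A C a = 0 := fun a ha => by
    rw [← Ideal.mem_bot, ← hk]
    exact Ideal.mem_map_of_mem _ (Ideal.pow_le_pow_right (Nat.le_succ k) ha)
  letI : Algebra (A ⧸ m ^ (k + 1)) C :=
    (Ideal.Quotient.lift _ (algebraMap A C) hk').toAlgebra
  have hv : ∀ x ∈ (m ^ (k + 1)).map (algebraMap A B), v x = 0 := by
    intro x hx
    have hle : (m ^ (k + 1)).map (algebraMap A B) ≤ RingHom.ker v.toRingHom := by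
      rw [Ideal.map_le_iff_le_comap]
      intro a ha
      rw [Ideal.mem_comap, RingHom.mem_ker]
      change v (algebraMap A B a) = 0
      rw [AlgHom.commutes]
      change Ideal.Quotient.mk J (algebraMap A C a) = 0
      rw [hk' a ha, map_zero]
    exact hle hx
  let vb : Red m B (k + 1) →ₐ[A ⧸ m ^ (k + 1)] C ⧸ J :=
    { toRingHom := Ideal.Quotient.lift _ v.toRingHom hv
      commutes' := fun a => by
        obtain ⟨a, rfl⟩ := Ideal.Quotient.mk_surjective a
        exact v.commutes a }
  have := h k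
  have hsur : Function.Surjective (Ideal.Quotient.mkₐ (A ⧸ m ^ (k + 1)) J) :=
    Ideal.Quotient.mk_surjective
  have hnil : IsNilpotent (RingHom.ker (Ideal.Quotient.mkₐ (A ⧸ m ^ (k + 1)) J :
      C →+* C ⧸ J)) := by
    rw [show RingHom.ker (Ideal.Quotient.mkₐ (A ⧸ m ^ (k + 1)) J : C →+* C ⧸ J) = J from
      Ideal.mk_ker]
    exact hJ
  let w := Algebra.FormallySmooth.liftOfSurjective vb _ hsur hnil
  refine ⟨{ toRingHom := w.toRingHom.comp (Ideal.Quotient.mk _), commutes' := fun a => ?_ },
    AlgHom.ext fun x => ?_⟩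
  · exact w.commutes (Ideal.Quotient.mk _ a)
  · exact Algebra.FormallySmooth.liftOfSurjective_apply vb _ hsur hnil (Ideal.Quotient.mk _ x)

theorem isFormallySmoothAdic_of_isCohenAlgebra [IsLocalRing A] [IsLocalRing B]
    [IsLocalHom (algebraMap A B)] (h : EGA41.IsCohenAlgebra A B) :
    EGA41.IsFormallySmoothAdic A (maximalIdeal A) B (maximalIdeal B) := by
  obtain ⟨-, -, -, hflat, hmap, hgr⟩ := h
  have hres := (EGA41Lib.formallySmooth_iff_isGeometricallyReduced
    (k := ResidueField A) (K := ResidueField B)).2 hgr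
  refine isFormallySmoothAdic_of_red _ _ (formallySmooth_red _ ?_)
  let e₁ : A ⧸ maximalIdeal A ^ 1 ≃+* ResidueField A := Ideal.quotEquivOfEq (pow_one _)
  let e₂ : Red (maximalIdeal A) B 1 ≃+* ResidueField B :=
    Ideal.quotEquivOfEq (by rw [pow_one, hmap])
  have h2 : (e₂.symm.toRingHom.comp
      ((algebraMap (ResidueField A) (ResidueField B)).comp e₁.toRingHom)).FormallySmooth :=
    ((RingHom.FormallySmooth.of_bijective (f := e₁.toRingHom) e₁.bijective).comp
      (RingHom.formallySmooth_algebraMap.mpr hres)).comp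
        (RingHom.FormallySmooth.of_bijective (f := e₂.symm.toRingHom) e₂.symm.bijective)
  rw [← RingHom.formallySmooth_algebraMap]
  convert h2 using 1
  exact Ideal.Quotient.ringHom_ext (RingHom.ext fun a => rfl)

end Groth.Agent.CohenAlgFS
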